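import Groth.Agent.ResProp.EF.K805.Bridge
import Groth.Agent.ResProp.EF.K496.CobMod

/-!
# `M ⊗[k] O ≃ M ⊗[R] (R ⊗[k] O)` and the comonads

`al M : M ⊗[k] O ≃ₗ[R] M ⊗[R] (R ⊗[k] O)`, `m ⊗ a ↦ m ⊗ (1 ⊗ a)`; compatible with counit, comultiplication, unit, natural.
-/

set_option autoImplicit false

universe u

open TensorProduct

noncomputable section

namespace Groth.Agent.ResProp.EF.K140

variable {k : Type u} [CommRing k] {R : Type u} [CommRing R] [Algebra k R] (O : Type u) [CommRing O] [Bialgebra k O]
variable (M : Type u) [AddCommGroup M] [Module k M] [Module R M] [IsScalarTower k R M]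

variable (k R) in
/-- `m ⊗ a ↦ m ⊗ (1 ⊗ a)` -/
def al : M ⊗[k] O ≃ₗ[R] M ⊗[R] (R ⊗[k] O) :=
  (AlgebraTensorModule.cancelBaseChange k R R M O).symm

@[simp] theorem al_tmul (m : M) (a : O) : al k R O M (m ⊗ₜ[k] a) = m ⊗ₜ[R] ((1 : R) ⊗ₜ[k] a) := rfl

theorem al_eq_up (z : M ⊗[k] O) : al k R O M z = K805.up k O (LinearMap.id : M →ₗ[R] M) z := by
  induction z using TensorProduct.induction_on with
  | zero => simp only [map_zero]
  | add x y hx hy => simp only [map_add, hx, hy]
  | tmul m a => rw [al_tmul, K805.up_tmul]; rfl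

/-- counit -/
theorem al_eps (z : M ⊗[k] O) : K496.epsL R (R ⊗[k] O) M (al k R O M z) = K496.epsL k O M z := by
  induction z using TensorProduct.induction_on with
  | zero => simp only [map_zero]
  | add x y hx hy => simp only [map_add, hx, hy]
  | tmul m a =>
    rw [al_tmul, K496.epsL_tmul, K496.epsL_tmul]
    simp

/-- unit -/
theorem al_one (m : M) : al k R O M (m ⊗ₜ[k] (1 : O)) = m ⊗ₜ[R] (1 : R ⊗[k] O) := rfl

variable {M} in
/-- naturality -/
theorem al_nat {N : Type u} [AddCommGroup N] [Module k N] [Module R N] [IsScalarTower k R N] (f : M →ₗ[R] N)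
    (z : M ⊗[k] O) : al k R O N ((f.restrictScalars k).rTensor O z) = f.rTensor (R ⊗[k] O) (al k R O M z) := by
  induction z using TensorProduct.induction_on with
  | zero => simp only [map_zero]
  | add x y hx hy => simp only [map_add, hx, hy]
  | tmul m a => rfl

/-- comultiplication -/
theorem al_del (z : M ⊗[k] O) :
    (al k R O M).toLinearMap.rTensor (R ⊗[k] O) (al k R O (M ⊗[k] O) (Hoch.Ind.coactAux k O M z)) =
      Hoch.Ind.coactAux R (R ⊗[k] O) M (al k R O M z) := by
  induction z using TensorProduct.induction_on with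
  | zero => simp only [map_zero]
  | add x y hx hy => simp only [map_add, hx, hy]
  | tmul m a =>
    rw [Hoch.Ind.coactAux_tmul, al_tmul, Hoch.Ind.coactAux_tmul, K805.comul_one_tmul]
    induction Coalgebra.comul (R := k) a using TensorProduct.induction_on with
    | zero => simp only [TensorProduct.tmul_zero, map_zero]
    | add x y hx hy => simp only [TensorProduct.tmul_add, map_add, hx, hy]
    | tmul b c => rfl

end Groth.Agent.ResProp.EF.K140
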