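import Groth.Agent.ResProp.EF.K742.Bicom
import Groth.Agent.ResProp.EF.K140.ModHom

/-!
# `TM κ M O ≃ M ⊗[R] (R ⊗[k] O)` and the comonads (`S16912`, (6) (C))

`tb hκ M : TM κ M O ≃ₗ[R] M ⊗[R] (R ⊗[k] O)`, `tm m a ↦ m ⊗ (1 ⊗ a)`, for `κ = algebraMap k R`; compatible with
`K742.epsL`, `K742.delL`, the unit `m ↦ tm m 1`, natural in `M`.
-/

set_option autoImplicit false

universe u

open TensorProduct

noncomputable section

namespace Groth.Agent.ResProp.EF.K140

open K742

variable {k : Type u} [CommRing k] {R : Type u} [CommRing R] [Algebra k R] (O : Type u)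
variable {κ : k →+* R} (hκ : ∀ c : k, κ c = algebraMap k R c)

section

variable [AddCommGroup O] [Module k O] (M : Type u) [AddCommGroup M] [Module R M]

/-- `tm m a ↦ m ⊗ (1 ⊗ a)` -/
def tbFun : TM κ M O →ₗ[R] M ⊗[R] (R ⊗[k] O) :=
  TM.liftL κ
    (AddMonoidHom.mk' (fun m => AddMonoidHom.mk' (fun a => m ⊗ₜ[R] ((1 : R) ⊗ₜ[k] a)) fun a a' => by
      rw [TensorProduct.tmul_add, TensorProduct.tmul_add]) fun m m' => by
        ext a
        exact TensorProduct.add_tmul m m' _)
    (fun c m a => by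
      change (κ c • m) ⊗ₜ[R] ((1 : R) ⊗ₜ[k] a) = m ⊗ₜ[R] ((1 : R) ⊗ₜ[k] (c • a))
      rw [TensorProduct.smul_tmul, TensorProduct.smul_tmul', smul_eq_mul, mul_one, hκ c, Algebra.algebraMap_eq_smul_one,
        TensorProduct.smul_tmul])
    (fun r m a => (TensorProduct.smul_tmul' r m ((1 : R) ⊗ₜ[k] a)).symm)

theorem tbFun_tm (m : M) (a : O) : tbFun O hκ M (TM.tm κ m a) = m ⊗ₜ[R] ((1 : R) ⊗ₜ[k] a) := TM.liftL_tm κ _ _ _ m a

theorem tbFun_bij : Function.Bijective (tbFun O hκ M) := by
  let _ : Module k M := Module.compHom M κ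
  have hT : IsScalarTower k R M := ⟨fun a b m => by
    change (a • b) • m = κ a • (b • m)
    rw [Algebra.smul_def, ← hκ, mul_smul]⟩
  have h : ∀ z : M ⊗[k] O, tbFun O hκ M z = (AlgebraTensorModule.cancelBaseChange k R R M O).symm z := by
    intro z
    induction z using TensorProduct.induction_on with
    | zero => exact (map_zero (tbFun O hκ M)).trans (map_zero _).symm
    | add x y hx hy =>
      exact (map_add (tbFun O hκ M) x y).trans ((congrArg₂ (· + ·) hx hy).trans
        (map_add (AlgebraTensorModule.cancelBaseChange k R R M O).symm x y).symm)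
    | tmul m a => exact tbFun_tm O hκ M m a
  have h' : (tbFun O hκ M : TM κ M O → M ⊗[R] (R ⊗[k] O)) = (AlgebraTensorModule.cancelBaseChange k R R M O).symm :=
    funext h
  rw [h']
  exact (AlgebraTensorModule.cancelBaseChange k R R M O).symm.bijective

/-- `tm m a ↦ m ⊗ (1 ⊗ a)` -/
def tb : TM κ M O ≃ₗ[R] M ⊗[R] (R ⊗[k] O) := LinearEquiv.ofBijective (tbFun O hκ M) (tbFun_bij O hκ M)

@[simp] theorem tb_tm (m : M) (a : O) : tb O hκ M (TM.tm κ m a) = m ⊗ₜ[R] ((1 : R) ⊗ₜ[k] a) := tbFun_tm O hκ M m a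

@[simp] theorem tb_symm (m : M) (a : O) : (tb O hκ M).symm (m ⊗ₜ[R] ((1 : R) ⊗ₜ[k] a)) = TM.tm κ m a := by
  rw [LinearEquiv.symm_apply_eq, tb_tm]

variable {M} in
/-- naturality -/
theorem tb_map {N : Type u} [AddCommGroup N] [Module R N] {O' : Type u} [AddCommGroup O'] [Module k O'] (f : M →ₗ[R] N)
    (g : O →ₗ[k] O') (z : TM κ M O) :
    tb O' hκ N (TM.map κ f g z) = TensorProduct.map f (g.baseChange R) (tb O hκ M z) := by
  induction z using TM.induction with
  | zero => simp only [map_zero]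
  | add x y hx hy => simp only [map_add, hx, hy]
  | tm m a => rw [TM.map_tm, tb_tm, tb_tm, TensorProduct.map_tmul, LinearMap.baseChange_tmul]

variable {M} in
/-- naturality -/
theorem tb_nat {N : Type u} [AddCommGroup N] [Module R N] (f : M →ₗ[R] N) (z : TM κ M O) :
    tb O hκ N (TM.map κ f LinearMap.id z) = f.rTensor (R ⊗[k] O) (tb O hκ M z) := by
  induction z using TM.induction with
  | zero => simp only [map_zero]
  | add x y hx hy => simp only [map_add, hx, hy]
  | tm m a => rw [TM.map_tm, tb_tm, tb_tm]; rfl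

end

section

variable [CommRing O] [Bialgebra k O] (M : Type u) [AddCommGroup M] [Module R M]

/-- counit -/
theorem tb_eps (z : TM κ M O) : K496.epsL R (R ⊗[k] O) M (tb O hκ M z) = K742.epsL O κ M z := by
  induction z using TM.induction with
  | zero => simp only [map_zero]
  | add x y hx hy => simp only [map_add, hx, hy]
  | tm m a =>
    rw [tb_tm, K496.epsL_tmul, K742.epsL_tm, hκ]
    congr 1
    simp [Algebra.algebraMap_eq_smul_one]

/-- unit -/
theorem tb_one (m : M) : tb O hκ M (TM.tm κ m (1 : O)) = m ⊗ₜ[R] (1 : R ⊗[k] O) := tb_tm O hκ M m 1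

theorem tb_ins (m : M) (w : O ⊗[k] O) :
    (tb O hκ M).toLinearMap.rTensor (R ⊗[k] O) (tb O hκ (TM κ M O) (K742.ins O κ m w)) =
      (TensorProduct.assoc R M (R ⊗[k] O) (R ⊗[k] O)).symm (m ⊗ₜ[R]
        AlgebraTensorModule.distribBaseChange k R O O ((1 : R) ⊗ₜ[k] w)) := by
  induction w using TensorProduct.induction_on with
  | zero => simp only [TensorProduct.tmul_zero, map_zero]
  | add x y hx hy => simp only [TensorProduct.tmul_add, map_add, hx, hy]
  | tmul a b =>
    rw [K742.ins_tmul, tb_tm]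
    change tb O hκ M (TM.tm κ m a) ⊗ₜ[R] ((1 : R) ⊗ₜ[k] b) = _
    rw [tb_tm]
    rfl

/-- comultiplication -/
theorem tb_del (z : TM κ M O) :
    (tb O hκ M).toLinearMap.rTensor (R ⊗[k] O) (tb O hκ (TM κ M O) (K742.delL O κ M z)) =
      Hoch.Ind.coactAux R (R ⊗[k] O) M (tb O hκ M z) := by
  induction z using TM.induction with
  | zero => simp only [map_zero]
  | add x y hx hy => simp only [map_add, hx, hy]
  | tm m a => rw [K742.delL_tm, tb_tm, Hoch.Ind.coactAux_tmul, K805.comul_one_tmul, tb_ins]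

end

end Groth.Agent.ResProp.EF.K140
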