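import Groth.Agent.ResProp.EF.K742.GO
import Groth.Agent.ResProp.EF.K742.CoalgChart
import Groth.Agent.ResProp.EF.K741.ComodAb
import Groth.Agent.ResProp.EF.K140.TMBc
import Groth.Agent.ResProp.EF.K118.Lift

/-!
# Evaluation on the chart of coalgebras over `- ⊗_k O` (`S16912`, (6) (C))

`ueHom s hs O : K496.CHom (unitGO s O) (K496.UO R (R ⊗[k] O)) (vst A)`, `R = A⟨0⟩`;
`uE s hs O : (GO s O).Coalgebra ⥤ (K496.GO R (R ⊗[k] O)).Coalgebra` its lift, `uE_forget : uE ⋙ forget = forget ⋙ vst`,
`ueCob : (unitGO s O).Cob ⋙ vst = uE ⋙ (UO R (R ⊗[k] O)).Cob`.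
-/

set_option autoImplicit false
set_option linter.dupNamespace false

universe w w' u

open CategoryTheory CategoryTheory.Limits Opposite TensorProduct

noncomputable section

namespace Groth.Agent.ResProp.EF.K140

open EF56 K741.RP

variable {k : Type u} [CommRing k] {A : NFᵒᵖ ⥤ CommRingCat.{u}} (s : K742.KS k A)

section

variable [Algebra k (A.obj (op (⟨0⟩ : NF)))]
  (hs : ∀ c : k, s.κ (op ⟨0⟩) c = algebraMap k (A.obj (op (⟨0⟩ : NF))) c)

section

variable (W : Type u) [AddCommGroup W] [Module k W]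

/-- `v^* (M ⊗_k W) = v^* M ⊗_R (R ⊗_k W)` -/
def tbIso (M : Comod A) : (vst A).obj ((K742.tensC s W).obj M) ≅
    ModuleCat.of (A.obj (op ⟨0⟩)) ((vst A).obj M ⊗[(A.obj (op (⟨0⟩ : NF)))] ((A.obj (op (⟨0⟩ : NF))) ⊗[k] W)) :=
  LinearEquiv.toModuleIso (tb W hs ((vst A).obj M))

theorem tbIso_hom_tm (M : Comod A) (m : (vst A).obj M) (w : W) :
    (tbIso s hs W M).hom.hom (K742.TM.tm (s.κ (op ⟨0⟩)) m w) = m ⊗ₜ (1 ⊗ₜ w) := tb_tm W hs _ m w

end

variable (O : Type u) [CommRing O] [Bialgebra k O]

/-- the comonads `- ⊗_k O` on `Comod A` and on `R`-modules -/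
def ueHom : K496.CHom (K742.unitGO s O)
    (K496.UO (A.obj (op (⟨0⟩ : NF))) ((A.obj (op (⟨0⟩ : NF))) ⊗[k] O)) (vst A) where
  iso M := LinearEquiv.toModuleIso (tb O hs ((vst A).obj M))
  nat f := by
    apply ModuleCat.hom_ext
    apply LinearMap.ext
    intro z
    exact tb_nat O hs ((vst A).map f).hom z
  eps M := by
    apply ModuleCat.hom_ext
    apply LinearMap.ext
    intro z
    exact tb_eps O hs ((vst A).obj M) z
  del M := by
    apply ModuleCat.hom_ext
    apply LinearMap.ext
    intro z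
    exact tb_del O hs ((vst A).obj M) z
  one M := by
    apply ModuleCat.hom_ext
    apply LinearMap.ext
    intro m
    exact tb_one O hs ((vst A).obj M) m

/-- **evaluation on the chart** -/
abbrev uE : (K742.GO s O).Coalgebra ⥤
    (K496.GO (A.obj (op (⟨0⟩ : NF))) ((A.obj (op (⟨0⟩ : NF))) ⊗[k] O)).Coalgebra :=
  (ueHom s hs O).lift

theorem uE_forget : uE s hs O ⋙ (K496.GO _ _).forget = (K742.GO s O).forget ⋙ vst A := rfl

theorem uE_obj_A (M : (K742.GO s O).Coalgebra) : ((uE s hs O).obj M).A = (vst A).obj M.A := rfl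

theorem uE_map_f {M N : (K742.GO s O).Coalgebra} (f : M ⟶ N) : ((uE s hs O).map f).f = (vst A).map f.f := rfl

/-- the coaction of `uE M` -/
theorem uE_a (M : (K742.GO s O).Coalgebra) (m : (vst A).obj M.A) :
    ((uE s hs O).obj M).a.hom m = tb O hs ((vst A).obj M.A) (((vst A).map M.a).hom m) := rfl

/-- the coaction of `uE M`, as a comodule -/
theorem toComod_uE (M : (K742.GO s O).Coalgebra) (m : (vst A).obj M.A) :
    (K496.toComod ((uE s hs O).obj M)).coact m = tb O hs ((vst A).obj M.A) (((vst A).map M.a).hom m) := rfl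

section Ab

variable [Fact (GR A)]

instance additive_GO742 : (K742.GO s O).toFunctor.Additive where
  map_add {M N f g} := by
    apply ObjectProperty.hom_ext
    exact (K742.tensP s O).map_add

instance preservesColimits_uE : PreservesColimitsOfSize.{u, u} (uE s hs O) where
  preservesColimitsOfShape := inferInstance

instance preservesFiniteColimits_uE : PreservesFiniteColimits (uE s hs O) := inferInstance

instance faithful_uE : (uE s hs O).Faithful := inferInstance

variable [PreservesFiniteLimits (K742.GO s O).toFunctor]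
  [PreservesFiniteLimits (K496.GO (A.obj (op (⟨0⟩ : NF))) ((A.obj (op (⟨0⟩ : NF))) ⊗[k] O)).toFunctor]

instance preservesFiniteLimits_uE : PreservesFiniteLimits (uE s hs O) := inferInstance

instance additive_uE : (uE s hs O).Additive := inferInstance

variable [PreservesFiniteColimits (K742.GO s O).toFunctor]

instance preservesHomology_uE : (uE s hs O).PreservesHomology := inferInstance

/-- `Cob` commutes with the evaluation on the chart -/
def ueCob : (K742.unitGO s O).Cob ⋙ (vst A).mapHomologicalComplex (ComplexShape.up ℤ) ≅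
    uE s hs O ⋙ (K496.UO (A.obj (op (⟨0⟩ : NF))) ((A.obj (op (⟨0⟩ : NF))) ⊗[k] O)).Cob :=
  (ueHom s hs O).cobIso

end Ab

end

end Groth.Agent.ResProp.EF.K140
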