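import Groth.Agent.ResProp.EF.K140.Push
import Groth.Agent.ResProp.EF.K671.Iface

/-!
# G6b, assembly (node B7): from FIN(H) to FIN(E) for all admissible groups `E` over `H`
-/

set_option autoImplicit false

universe u

open TensorProduct

noncomputable section

namespace Groth.Agent.ResProp.EF.K140

open K83 Grp

theorem push_eq {R : Type u} [CommRing R] {A : Type u} [CommRing A] [HopfAlgebra R A]
    {A' : Type u} [CommRing A'] [HopfAlgebra R A'] {D : Type u} [CommRing D] [Algebra R D] (c : CoAlg R A D)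
    (φ : A →ₐc[R] A') : K671.push c φ = push c φ := rfl

theorem bc_eq {k : Type u} [CommRing k] (R : Type u) [CommRing R] [Algebra k R]
    {A : Type u} [CommRing A] [HopfAlgebra k A] {A' : Type u} [CommRing A'] [HopfAlgebra k A'] (φ : A →ₐc[k] A') :
    K671.bc R φ = bc R φ := rfl

/-- the induction: a step statement for every one step extension gives FIN for all admissible groups -/
theorem finOut_adm {k : Type u} [CommRing k] (R : Type u) [CommRing R] [Algebra k R]
    {H : Gp k} {D : Type u} [CommRing D] [Algebra R D] (c : CoAlg R (R ⊗[k] H.O) D) {r : ℕ}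
    (h0 : FinOut R (R ⊗[k] H.O) D c r)
    (hs : ∀ (E : Gp k) (S : OneStep E) (c : CoAlg R (R ⊗[k] E.O) D) (r : ℕ), FinOut R (R ⊗[k] E.O) D c r →
      ∃ r' : ℕ, FinOut R (R ⊗[k] S.E'.O) D (push c (bc R S.ι)) r')
    {E : Gp k} {ι : H.O →ₐc[k] E.O} (hE : Adm H E ι) :
    ∃ r' : ℕ, FinOut R (R ⊗[k] E.O) D (push c (bc R ι)) r' := by
  induction hE with
  | base => exact ⟨r, by rw [bc_id, push_id]; exact h0⟩
  | step E ι _ S ih =>
    obtain ⟨r', h⟩ := ih
    obtain ⟨r'', h''⟩ := hs E S _ r' h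
    refine ⟨r'', ?_⟩
    rw [push_push, bc_comp] at h''
    exact h''

/-- coordinates for all one step extensions over `k` -/
def Coord (k : Type u) [CommRing k] : Prop :=
  ∀ (E : Gp k) (S : OneStep E), ∃ T : K671.StepData k E.O S.E'.O, T.ι = S.ι

/-- the output of G6b over `k` -/
def G6b (k : Type u) [CommRing k] : Prop :=
  ∀ (R : Type u) [CommRing R] [IsNoetherianRing R]
    [Algebra k R] (H : Gp k) (D : Type u) [CommRing D] [IsNoetherianRing D] [Algebra R D]
    (c : CoAlg R (R ⊗[k] H.O) D) (r : ℕ), FinOut R (R ⊗[k] H.O) D c r →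
    ∀ (E : Gp k) (ι : H.O →ₐc[k] E.O), Adm H E ι →
      ∃ r' : ℕ, FinOut R (R ⊗[k] E.O) D (K671.push c (K671.bc R ι)) r'

/-- **B7** over any base ring `k` (also for `k = ℚ`) -/
theorem g6b_of {k : Type u} [CommRing k] (h3 : K671.StmtStep.{u}) (h1' : K671.StmtStepBC.{u}) (h1 : Coord k) :
    G6b k := by
  intro R _ _ _ H D _ _ _ c r h0 E ι hE
  refine finOut_adm R c h0 ?_ hE
  intro E S c r hr
  obtain ⟨T, hT⟩ := h1 E S
  obtain ⟨T', hT', -⟩ := h1' R k E.O S.E'.O T
  have h := h3 R (R ⊗[k] E.O) (R ⊗[k] S.E'.O) T' D c r hr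
  rw [hT', hT] at h
  exact ⟨_, h⟩

/-- **B7**: the output of G6b from the nodes B3, B1, B1' -/
theorem stmtG6b (h3 : K671.StmtStep.{u}) (h1 : K671.StmtCoord.{u}) (h1' : K671.StmtStepBC.{u}) :
    K671.StmtG6b.{u} := by
  intro p k _ _ R _ _ _ H D _ _ _ c r h0 E ι hE
  exact g6b_of h3 h1' (fun E S => h1 p k E S) R H D c r h0 E ι hE

end Groth.Agent.ResProp.EF.K140
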