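import Groth.Agent.ResProp.EF.K496.CobNat

/-!
# Exactness of the functor on coalgebras induced by a functor compatible with comonads
-/

set_option autoImplicit false

noncomputable section

open CategoryTheory CategoryTheory.Limits

namespace Groth.Agent.ResProp.EF.K140

open K496

universe v v' u u' w w'

variable {C : Type u} [Category.{v} C] {C' : Type u'} [Category.{v'} C']
variable {G : Comonad C} {G' : Comonad C'} {U : CUnit G} {U' : CUnit G'} {Φ : C ⥤ C'} (F : CHom U U' Φ)

section Lim

variable {J : Type w} [Category.{w'} J]

/-- `lift` preserves the colimits preserved by `Φ` -/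
theorem preservesColimitsOfShape_lift [HasColimitsOfShape J C] [HasColimitsOfShape J C']
    [PreservesColimitsOfShape J Φ] : PreservesColimitsOfShape J F.lift := by
  have : PreservesColimitsOfShape J (F.lift ⋙ G'.forget) :=
    inferInstanceAs (PreservesColimitsOfShape J (G.forget ⋙ Φ))
  exact preservesColimitsOfShape_of_reflects_of_preserves F.lift G'.forget

/-- `lift` preserves the limits preserved by `Φ` and the comonads -/
theorem preservesLimitsOfShape_lift [HasLimitsOfShape J C] [HasLimitsOfShape J C']
    [PreservesLimitsOfShape J G.toFunctor] [PreservesLimitsOfShape J G'.toFunctor]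
    [PreservesLimitsOfShape J Φ] : PreservesLimitsOfShape J F.lift := by
  have : PreservesLimitsOfShape J (F.lift ⋙ G'.forget) :=
    inferInstanceAs (PreservesLimitsOfShape J (G.forget ⋙ Φ))
  have : ReflectsLimitsOfShape J G'.forget := reflectsLimitsOfShape_of_reflectsIsomorphisms
  exact preservesLimitsOfShape_of_reflects_of_preserves F.lift G'.forget

end Lim

theorem preservesFiniteColimits_lift [HasFiniteColimits C] [HasFiniteColimits C'] [PreservesFiniteColimits Φ] :
    PreservesFiniteColimits F.lift :=
  ⟨fun _ _ _ => preservesColimitsOfShape_lift F⟩

theorem preservesFiniteLimits_lift [HasFiniteLimits C] [HasFiniteLimits C'] [PreservesFiniteLimits G.toFunctor]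
    [PreservesFiniteLimits G'.toFunctor] [PreservesFiniteLimits Φ] : PreservesFiniteLimits F.lift :=
  ⟨fun _ _ _ => preservesLimitsOfShape_lift F⟩

theorem faithful_lift [Φ.Faithful] : F.lift.Faithful where
  map_injective {X Y f g} h := by
    apply G.forget.map_injective
    apply Φ.map_injective
    exact congrArg (fun t => t.f) h

theorem additive_lift [Preadditive C] [Preadditive C'] [G.toFunctor.Additive] [G'.toFunctor.Additive] [Φ.Additive] :
    F.lift.Additive where
  map_add {X Y f g} := by
    apply G'.forget.map_injective
    change Φ.map (f.f + g.f) = Φ.map f.f + Φ.map g.f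
    exact Φ.map_add

section Homology

variable [Abelian C] [Abelian C'] [G.toFunctor.Additive] [G'.toFunctor.Additive] [Φ.Additive]
  [PreservesFiniteLimits G.toFunctor] [PreservesFiniteLimits G'.toFunctor] [PreservesFiniteLimits Φ]
  [PreservesFiniteColimits Φ]

/-- `lift` is exact -/
theorem preservesHomology_lift : haveI := additive_lift F; F.lift.PreservesHomology := by
  have := additive_lift F
  have := preservesFiniteLimits_lift F
  have := preservesFiniteColimits_lift F
  exact inferInstance

end Homology

end Groth.Agent.ResProp.EF.K140
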