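import Groth.Agent.ResProp.EF.K140.UE
import Groth.Agent.ResProp.EF.X56.ChartF

/-!
# `ueHom` over the chart `chartF A` (`S16912`, G6c (I7))
-/

set_option autoImplicit false
set_option linter.dupNamespace false

universe u

open CategoryTheory CategoryTheory.Limits Opposite TensorProduct

noncomputable section

namespace Groth.Agent.ResProp.EF.K140

open EF56 K741.RP

variable {k : Type u} [CommRing k] {A : NFᵒᵖ ⥤ CommRingCat.{u}} [Fact (GR A)] (s : K742.KS k A)
  [Algebra k (A.obj (op (⟨0⟩ : NF)))]
  (hs : ∀ c : k, s.κ (op ⟨0⟩) c = algebraMap k (A.obj (op (⟨0⟩ : NF))) c)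
  (O : Type u) [CommRing O] [Bialgebra k O]

/-- (I7): the comparison of the comonads over the chart -/
def phi : K496.CHom (K742.unitGO s O)
    (K496.UO (A.obj (op (⟨0⟩ : NF))) ((A.obj (op (⟨0⟩ : NF))) ⊗[k] O)) (chartF A).us := ueHom s hs O

theorem phi_lift : (phi s hs O).lift = uE s hs O := rfl

end Groth.Agent.ResProp.EF.K140
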