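import Groth.Agent.ResProp.EF.K83.FinDatum
import Mathlib.RingTheory.Bialgebra.TensorProduct
import Mathlib.RingTheory.HopfAlgebra.TensorProduct

/-!
# Push of a comodule algebra along a homomorphism of Hopf algebras
-/

set_option autoImplicit false

universe u

open TensorProduct

noncomputable section

namespace Groth.Agent.ResProp.EF.K140

open K83

section Push

variable {R : Type u} [CommRing R] {A : Type u} [CommRing A] [HopfAlgebra R A]
  {A' : Type u} [CommRing A'] [HopfAlgebra R A'] {A'' : Type u} [CommRing A''] [HopfAlgebra R A'']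
  {D : Type u} [CommRing D] [Algebra R D]

theorem CoAlg.ext' {c c' : CoAlg R A D} (h : c.ρ = c'.ρ) : c = c' := by
  cases c
  cases c'
  cases h
  rfl

theorem push_coassoc (c : CoAlg R A D) (φ : A →ₐc[R] A') (x : D) :
    TensorProduct.assoc R D A' A'
        ((((Algebra.TensorProduct.map (AlgHom.id R D) (φ : A →ₐ[R] A')).comp c.ρ).toLinearMap).rTensor A'
          (((Algebra.TensorProduct.map (AlgHom.id R D) (φ : A →ₐ[R] A')).comp c.ρ) x)) =
      (Coalgebra.comul (R := R) (A := A')).lTensor D
        (((Algebra.TensorProduct.map (AlgHom.id R D) (φ : A →ₐ[R] A')).comp c.ρ) x) := by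
  have h1 : ∀ y : D ⊗[R] A, TensorProduct.assoc R D A' A'
        ((((Algebra.TensorProduct.map (AlgHom.id R D) (φ : A →ₐ[R] A')).comp c.ρ).toLinearMap).rTensor A'
          ((Algebra.TensorProduct.map (AlgHom.id R D) (φ : A →ₐ[R] A')) y)) =
      (TensorProduct.map (φ : A →ₐ[R] A').toLinearMap (φ : A →ₐ[R] A').toLinearMap).lTensor D
        (TensorProduct.assoc R D A A (c.ρ.toLinearMap.rTensor A y)) := by
    intro y
    induction y using TensorProduct.induction_on with
    | zero => simp only [map_zero]
    | add y z hy hz => simp only [map_add, hy, hz]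
    | tmul d a =>
      simp only [Algebra.TensorProduct.map_tmul, AlgHom.coe_id, id_eq, LinearMap.rTensor_tmul,
        AlgHom.toLinearMap_apply, AlgHom.coe_comp, Function.comp_apply]
      induction c.ρ d using TensorProduct.induction_on with
      | zero => simp only [map_zero, TensorProduct.zero_tmul]
      | add y z hy hz => simp only [map_add, TensorProduct.add_tmul, hy, hz]
      | tmul d' a' => simp
  have h2 : ∀ y : D ⊗[R] A, (TensorProduct.map (φ : A →ₐ[R] A').toLinearMap (φ : A →ₐ[R] A').toLinearMap).lTensor D
      ((Coalgebra.comul (R := R) (A := A)).lTensor D y) =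
      (Coalgebra.comul (R := R) (A := A')).lTensor D
        ((Algebra.TensorProduct.map (AlgHom.id R D) (φ : A →ₐ[R] A')) y) := by
    intro y
    induction y using TensorProduct.induction_on with
    | zero => simp only [map_zero]
    | add y z hy hz => simp only [map_add, hy, hz]
    | tmul d a =>
      simp only [Algebra.TensorProduct.map_tmul, AlgHom.coe_id, id_eq, LinearMap.lTensor_tmul]
      congr 1
      exact LinearMap.congr_fun (φ : A →ₗc[R] A').map_comp_comul a
  change TensorProduct.assoc R D A' A'
        ((((Algebra.TensorProduct.map (AlgHom.id R D) (φ : A →ₐ[R] A')).comp c.ρ).toLinearMap).rTensor A'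
          ((Algebra.TensorProduct.map (AlgHom.id R D) (φ : A →ₐ[R] A')) (c.ρ x))) =
      (Coalgebra.comul (R := R) (A := A')).lTensor D
        ((Algebra.TensorProduct.map (AlgHom.id R D) (φ : A →ₐ[R] A')) (c.ρ x))
  rw [h1, c.coassoc, h2]

theorem push_counit (c : CoAlg R A D) (φ : A →ₐc[R] A') (x : D) :
    (Coalgebra.counit (R := R) (A := A')).lTensor D
      (((Algebra.TensorProduct.map (AlgHom.id R D) (φ : A →ₐ[R] A')).comp c.ρ) x) = x ⊗ₜ[R] (1 : R) := by
  have h2 : ∀ y : D ⊗[R] A, (Coalgebra.counit (R := R) (A := A')).lTensor D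
        ((Algebra.TensorProduct.map (AlgHom.id R D) (φ : A →ₐ[R] A')) y) =
      (Coalgebra.counit (R := R) (A := A)).lTensor D y := by
    intro y
    induction y using TensorProduct.induction_on with
    | zero => simp only [map_zero]
    | add y z hy hz => simp only [map_add, hy, hz]
    | tmul d a =>
      simp only [Algebra.TensorProduct.map_tmul, AlgHom.coe_id, id_eq, LinearMap.lTensor_tmul]
      congr 1
      exact LinearMap.congr_fun (φ : A →ₗc[R] A').counit_comp a
  change (Coalgebra.counit (R := R) (A := A')).lTensor D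
      ((Algebra.TensorProduct.map (AlgHom.id R D) (φ : A →ₐ[R] A')) (c.ρ x)) = _
  rw [h2, c.counit]

/-- the comodule algebra over `A'` obtained along `A → A'` (restriction of the action of `Spec A` to `Spec A'`) -/
def push (c : CoAlg R A D) (φ : A →ₐc[R] A') : CoAlg R A' D where
  ρ := (Algebra.TensorProduct.map (AlgHom.id R D) (φ : A →ₐ[R] A')).comp c.ρ
  coassoc := push_coassoc c φ
  counit := push_counit c φ

theorem map_id_map (φ : A →ₐ[R] A') (ψ : A' →ₐ[R] A'') (y : D ⊗[R] A) :
    Algebra.TensorProduct.map (AlgHom.id R D) ψ (Algebra.TensorProduct.map (AlgHom.id R D) φ y) =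
      Algebra.TensorProduct.map (AlgHom.id R D) (ψ.comp φ) y := by
  induction y using TensorProduct.induction_on with
  | zero => simp only [map_zero]
  | add y z hy hz => simp only [map_add, hy, hz]
  | tmul d a => simp

theorem push_push (c : CoAlg R A D) (φ : A →ₐc[R] A') (ψ : A' →ₐc[R] A'') :
    push (push c φ) ψ = push c (ψ.comp φ) :=
  CoAlg.ext' (AlgHom.ext fun x => map_id_map (φ : A →ₐ[R] A') (ψ : A' →ₐ[R] A'') (c.ρ x))

theorem push_id (c : CoAlg R A D) : push c (BialgHom.id R A) = c :=
  CoAlg.ext' (AlgHom.ext fun x => by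
    change Algebra.TensorProduct.map (AlgHom.id R D) ((BialgHom.id R A : A →ₐc[R] A) : A →ₐ[R] A) (c.ρ x) = c.ρ x
    induction c.ρ x using TensorProduct.induction_on with
    | zero => simp only [map_zero]
    | add y z hy hz => simp only [map_add, hy, hz]
    | tmul d a => simp)

end Push

section BC

variable {k : Type u} [CommRing k] (R : Type u) [CommRing R] [Algebra k R]
  {A : Type u} [CommRing A] [HopfAlgebra k A] {A' : Type u} [CommRing A'] [HopfAlgebra k A']
  {A'' : Type u} [CommRing A''] [HopfAlgebra k A'']

/-- base change of a homomorphism of bialgebras -/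
def bc (φ : A →ₐc[k] A') : (R ⊗[k] A) →ₐc[R] (R ⊗[k] A') :=
  Bialgebra.TensorProduct.map (BialgHom.id R R) φ

theorem bc_tmul (φ : A →ₐc[k] A') (r : R) (a : A) : bc R φ (r ⊗ₜ[k] a) = r ⊗ₜ[k] φ a := rfl

theorem bc_comp (φ : A →ₐc[k] A') (ψ : A' →ₐc[k] A'') : (bc R ψ).comp (bc R φ) = bc R (ψ.comp φ) :=
  BialgHom.ext fun y => by
    induction y using TensorProduct.induction_on with
    | zero => simp only [map_zero]
    | add y z hy hz => simp only [map_add, hy, hz]
    | tmul r a => rfl

theorem bc_id : bc R (BialgHom.id k A) = BialgHom.id R (R ⊗[k] A) :=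
  BialgHom.ext fun y => by
    induction y using TensorProduct.induction_on with
    | zero => simp only [map_zero]
    | add y z hy hz => simp only [map_add, hy, hz]
    | tmul r a => rfl

end BC

end Groth.Agent.ResProp.EF.K140
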