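import Groth.Prelude.Def_Hoch
import Groth.Prelude.Def_ComodTens

/-!
# The shearing isomorphism `V ⊗ O(E) ≃ V_triv ⊗ O(E)`

`k` a commutative ring, `O` a commutative Hopf algebra, `V` a comodule: `shr : v ⊗ a ↦ v₀ ⊗ v₁ a` is an isomorphism of comodules
from the tensor product of `V` with the regular comodule to the induced comodule `Hoch.Ind k O V`, natural in `V`.
-/

set_option autoImplicit false

universe u v w

open TensorProduct

noncomputable section

namespace Groth.Agent.ResProp.EF.K140

section TT

variable {k : Type u} [CommRing k] {O : Type v} [CommRing O] [Bialgebra k O] {V : Type w} [AddCommGroup V] [Module k V]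

/-- `v ⊗ a ↦ v₀ ⊗ φ(v₁) a` -/
def tsh (c : HopfRep.Comod k O V) (φ : O →ₗ[k] O) : V ⊗[k] O →ₗ[k] V ⊗[k] O :=
  (LinearMap.mul' k O ∘ₗ φ.rTensor O).lTensor V ∘ₗ (TensorProduct.assoc k V O O).toLinearMap ∘ₗ c.coact.rTensor O

theorem aux1 (φ : O →ₗ[k] O) (y : V ⊗[k] O) (a : O) :
    (LinearMap.mul' k O ∘ₗ φ.rTensor O).lTensor V (TensorProduct.assoc k V O O (y ⊗ₜ[k] a)) =
      (LinearMap.mulRight k a ∘ₗ φ).lTensor V y := by
  induction y using TensorProduct.induction_on with
  | zero => simp only [TensorProduct.zero_tmul, map_zero]
  | add x y hx hy => simp only [TensorProduct.add_tmul, map_add, hx, hy]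
  | tmul w b => simp

theorem tsh_tmul (c : HopfRep.Comod k O V) (φ : O →ₗ[k] O) (v : V) (a : O) :
    tsh c φ (v ⊗ₜ[k] a) = (LinearMap.mulRight k a ∘ₗ φ).lTensor V (c.coact v) :=
  aux1 φ (c.coact v) a

theorem tsh_lTensor (c : HopfRep.Comod k O V) (φ ψ : O →ₗ[k] O) (x : V ⊗[k] O) :
    tsh c φ (ψ.lTensor V x) =
      (LinearMap.mul' k O ∘ₗ TensorProduct.map φ ψ).lTensor V (TensorProduct.assoc k V O O (c.coact.rTensor O x)) := by
  induction x using TensorProduct.induction_on with
  | zero => simp only [map_zero]
  | add x y hx hy => simp only [map_add, hx, hy]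
  | tmul w b =>
    rw [LinearMap.lTensor_tmul, tsh_tmul, LinearMap.rTensor_tmul]
    induction c.coact w using TensorProduct.induction_on with
    | zero => simp only [TensorProduct.zero_tmul, map_zero]
    | add x y hx hy => simp only [TensorProduct.add_tmul, map_add, hx, hy]
    | tmul w' b' => simp

theorem tsh_coact (c : HopfRep.Comod k O V) (φ ψ : O →ₗ[k] O) (v : V) :
    tsh c φ (ψ.lTensor V (c.coact v)) =
      (LinearMap.mul' k O ∘ₗ TensorProduct.map φ ψ ∘ₗ CoalgebraStruct.comul).lTensor V (c.coact v) := by
  have h := LinearMap.congr_fun c.coassoc v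
  simp only [LinearMap.comp_apply, LinearEquiv.coe_coe] at h
  rw [tsh_lTensor, h, ← LinearMap.comp_apply, ← LinearMap.lTensor_comp]
  rfl

theorem tsh_tsh (c : HopfRep.Comod k O V) (φ ψ : O →ₗ[k] O) (x : V ⊗[k] O) :
    tsh c φ (tsh c ψ x) = tsh c (LinearMap.mul' k O ∘ₗ TensorProduct.map φ ψ ∘ₗ CoalgebraStruct.comul) x := by
  induction x using TensorProduct.induction_on with
  | zero => simp only [map_zero]
  | add x y hx hy => simp only [map_add, hx, hy]
  | tmul v a =>
    rw [tsh_tmul, tsh_coact, tsh_tmul]
    congr 1
    congr 1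
    apply LinearMap.ext
    intro b
    simp only [LinearMap.comp_apply]
    induction CoalgebraStruct.comul (R := k) b using TensorProduct.induction_on with
    | zero => simp only [map_zero]
    | add x y hx hy => simp only [map_add, hx, hy]
    | tmul b c => simp [mul_assoc]

theorem tsh_one (c : HopfRep.Comod k O V) (x : V ⊗[k] O) :
    tsh c (Algebra.linearMap k O ∘ₗ CoalgebraStruct.counit) x = x := by
  induction x using TensorProduct.induction_on with
  | zero => simp only [map_zero]
  | add x y hx hy => simp only [map_add, hx, hy]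
  | tmul v a =>
    have h := LinearMap.congr_fun c.counit_comp v
    simp only [LinearMap.comp_apply, LinearMap.flip_apply, TensorProduct.mk_apply] at h
    rw [tsh_tmul, ← LinearMap.comp_assoc, LinearMap.lTensor_comp, LinearMap.comp_apply, h, LinearMap.lTensor_tmul]
    simp

end TT

section Shear

variable {k : Type u} [CommRing k] {O : Type v} [CommRing O] [HopfAlgebra k O] {V : Type w} [AddCommGroup V] [Module k V]
  {V' : Type w} [AddCommGroup V'] [Module k V']

/-- the shearing isomorphism `v ⊗ a ↦ v₀ ⊗ v₁ a`, with inverse `v ⊗ a ↦ v₀ ⊗ S(v₁) a` -/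
def shear (c : HopfRep.Comod k O V) : (V ⊗[k] O) ≃ₗ[k] (V ⊗[k] O) :=
  LinearEquiv.ofLinearMap (tsh c LinearMap.id) (tsh c (HopfAlgebraStruct.antipode k (A := O)))
    (LinearMap.ext fun x => by
      rw [LinearMap.comp_apply, tsh_tsh]
      exact (congrArg (fun f => tsh c f x) (HopfAlgebra.mul_antipode_lTensor_comul (R := k) (A := O))).trans
        (tsh_one c x))
    (LinearMap.ext fun x => by
      rw [LinearMap.comp_apply, tsh_tsh]
      exact (congrArg (fun f => tsh c f x) (HopfAlgebra.mul_antipode_rTensor_comul (R := k) (A := O))).trans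
        (tsh_one c x))

theorem shear_tmul (c : HopfRep.Comod k O V) (v : V) (a : O) :
    shear c (v ⊗ₜ[k] a) = (LinearMap.mulRight k a).lTensor V (c.coact v) :=
  tsh_tmul c LinearMap.id v a

theorem shear_apply (c : HopfRep.Comod k O V) (x : V ⊗[k] O) :
    shear c x = (LinearMap.mul' k O).lTensor V (TensorProduct.assoc k V O O (c.coact.rTensor O x)) := by
  change tsh c LinearMap.id x = _
  unfold tsh
  rw [LinearMap.rTensor_id, LinearMap.comp_id]
  rfl

theorem shear_symm_tmul (c : HopfRep.Comod k O V) (v : V) (a : O) :
    (shear c).symm (v ⊗ₜ[k] a) =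
      (LinearMap.mulRight k a ∘ₗ HopfAlgebraStruct.antipode k (A := O)).lTensor V (c.coact v) :=
  tsh_tmul c _ v a

/-- `(id ⊗ ε) ∘ shear = id ⊗ ε` -/
theorem counit_shear (c : HopfRep.Comod k O V) (x : V ⊗[k] O) :
    (CoalgebraStruct.counit (R := k) (A := O)).lTensor V (shear c x) =
      (CoalgebraStruct.counit (R := k) (A := O)).lTensor V x := by
  induction x using TensorProduct.induction_on with
  | zero => simp only [map_zero]
  | add x y hx hy => simp only [map_add, hx, hy]
  | tmul v a =>
    have h := LinearMap.congr_fun c.counit_comp v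
    simp only [LinearMap.comp_apply, LinearMap.flip_apply, TensorProduct.mk_apply] at h
    rw [shear_tmul]
    have h2 : ∀ y : V ⊗[k] O, (CoalgebraStruct.counit (R := k) (A := O)).lTensor V
        ((LinearMap.mulRight k a).lTensor V y) =
        (LinearMap.mulRight k (CoalgebraStruct.counit (R := k) a)).lTensor V
          ((CoalgebraStruct.counit (R := k) (A := O)).lTensor V y) := by
      intro y
      induction y using TensorProduct.induction_on with
      | zero => simp only [map_zero]
      | add x y hx hy => simp only [map_add, hx, hy]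
      | tmul w b => simp
    rw [h2, h]
    simp

/-- naturality of the shearing isomorphism -/
theorem shear_natural (c : HopfRep.Comod k O V) (c' : HopfRep.Comod k O V') (f : V →ₗ[k] V')
    (hf : ∀ v, c'.coact (f v) = f.rTensor O (c.coact v)) (x : V ⊗[k] O) :
    shear c' (f.rTensor O x) = f.rTensor O (shear c x) := by
  induction x using TensorProduct.induction_on with
  | zero => simp only [map_zero]
  | add x y hx hy => simp only [map_add, hx, hy]
  | tmul v a =>
    rw [LinearMap.rTensor_tmul, shear_tmul, shear_tmul, hf, ComodTens.lTensor_rTensor_comm]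

theorem shear_symm_natural (c : HopfRep.Comod k O V) (c' : HopfRep.Comod k O V') (f : V →ₗ[k] V')
    (hf : ∀ v, c'.coact (f v) = f.rTensor O (c.coact v)) (x : V ⊗[k] O) :
    (shear c').symm (f.rTensor O x) = f.rTensor O ((shear c).symm x) := by
  rw [LinearEquiv.symm_apply_eq, shear_natural c c' f hf, LinearEquiv.apply_symm_apply]

theorem aux2 (c : HopfRep.Comod k O V) (y : V ⊗[k] O) (d : O ⊗[k] O) :
    (shear c).toLinearMap.rTensor O (TensorProduct.map LinearMap.id (LinearMap.mul' k O)
        (AlgebraTensorModule.tensorTensorTensorComm k k k k V O O O (y ⊗ₜ[k] d))) =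
      (TensorProduct.assoc k V O O).symm ((LinearMap.mulRight k d).lTensor V
        (TensorProduct.assoc k V O O (c.coact.rTensor O y))) := by
  induction y using TensorProduct.induction_on with
  | zero => simp only [TensorProduct.zero_tmul, map_zero]
  | add x y hx hy => simp only [TensorProduct.add_tmul, map_add, hx, hy]
  | tmul w b =>
    induction d using TensorProduct.induction_on with
    | zero =>
      have h0 : LinearMap.mulRight k (0 : O ⊗[k] O) = 0 := by ext; simp
      rw [h0, LinearMap.lTensor_zero]
      simp only [TensorProduct.tmul_zero, map_zero, LinearMap.zero_apply]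
    | add x y hx hy =>
      have h0 : LinearMap.mulRight k (x + y) = LinearMap.mulRight k x + LinearMap.mulRight k y := by
        apply LinearMap.ext
        intro z
        simp [mul_add]
      rw [h0, LinearMap.lTensor_add]
      simp only [TensorProduct.tmul_add, map_add, hx, hy, LinearMap.add_apply]
    | tmul a1 a2 =>
      rw [AlgebraTensorModule.tensorTensorTensorComm_tmul, TensorProduct.map_tmul, LinearMap.id_apply,
        LinearMap.rTensor_tmul, LinearMap.mul'_apply, LinearEquiv.coe_coe, shear_tmul, LinearMap.rTensor_tmul]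
      induction c.coact w using TensorProduct.induction_on with
      | zero => simp only [TensorProduct.zero_tmul, map_zero]
      | add x y hx hy => simp only [TensorProduct.add_tmul, map_add, hx, hy]
      | tmul w' b' => simp

/-- the shearing isomorphism is colinear: from the tensor product with the regular comodule to the induced comodule -/
theorem shear_colinear (c : HopfRep.Comod k O V) (x : V ⊗[k] O) :
    Hoch.Ind.coactAux k O V (shear c x) =
      (shear c).toLinearMap.rTensor O ((ComodTens.Comod.tensor c (HopfRep.Comod.regular k O)).coact x) := by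
  induction x using TensorProduct.induction_on with
  | zero => simp only [map_zero]
  | add x y hx hy => simp only [map_add, hx, hy]
  | tmul v a =>
    have h := LinearMap.congr_fun c.coassoc v
    simp only [LinearMap.comp_apply, LinearEquiv.coe_coe] at h
    rw [ComodTens.tensor_coact_tmul, aux2, h, shear_tmul]
    induction c.coact v using TensorProduct.induction_on with
    | zero => simp only [map_zero]
    | add x y hx hy => simp only [map_add, hx, hy]
    | tmul w b =>
      simp [Bialgebra.comul_mul]
      rfl

end Shear

end Groth.Agent.ResProp.EF.K140
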